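import Cfsg.Agent.Lib.Orth.Omega
import Cfsg.Agent.Lib.Orth.CharTwo
import Cfsg.Agent.Lib.Forms.Witt
import Cfsg.Agent.Lib.QuadFin.OrthSum

/-!
Membership in `Ω` via the characters, its behaviour in orthogonal sums, and adjusting an isometry by
reflections into `Ω`.
-/

set_option autoImplicit false

namespace CfsgLib.OrthOmega

open Matrix QuadraticMap CfsgLib.Orth

variable {F : Type*} [Field F] [Fintype F] {ι : Type} [Fintype ι] [DecidableEq ι]
  {Q : QuadraticForm F (ι → F)}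

theorem charP_two_of_two_eq_zero {F : Type*} [Field F] (h : (2 : F) = 0) : CharP F 2 :=
  CharTwo.of_one_ne_zero_of_two_eq_zero one_ne_zero h

theorem exists_not_square (h2 : (2 : F) ≠ 0) : ∃ d : F, ¬ IsSquare d :=
  FiniteField.exists_nonsquare fun h => by
    have : CharP F 2 := ringChar.of_eq h
    exact h2 CharTwo.two_eq_zero

theorem gen_cond {n : ℕ} (h : Fintype.card F ≠ 2 ∨ n ≠ 4) :
    (∃ p : F, p ≠ 0 ∧ p ≠ 1) ∨ n ≠ 4 := by
  classical
  rcases h with h | h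
  · refine Or.inl ?_
    by_contra hc
    push Not at hc
    have hsub : (Finset.univ : Finset F) ⊆ {0, 1} := fun p _ => by
      rcases eq_or_ne p 0 with hp | hp <;> simp [hp, hc p]
    have h1 := Finset.card_le_card hsub
    have h2 : ({0, 1} : Finset F).card ≤ 2 := Finset.card_le_two
    have h3 := Fintype.one_lt_card (α := F)
    rw [Finset.card_univ] at h1
    omega
  · exact Or.inr h

theorem mem_omega_odd [DecidableEq F] (hQ : Q.polarBilin.Nondegenerate) (h2 : (2 : F) ≠ 0) {d : F}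
    (hd : ¬ IsSquare d) (g : O Q) : g ∈ Cfsg.Omega F ⇑Q ↔ chiPair Q d g = 1 := by
  rw [Cfsg.Omega, show commutator ↥(Cfsg.isometryGroup F ⇑Q) = (chiPair Q d).ker from
    commutator_eq hQ h2 hd, MonoidHom.mem_ker]

theorem mem_omega_two [CharP F 2] (hQ : Q.polarBilin.Nondegenerate) (hgen : reflClosure Q = ⊤)
    (g : O Q) : g ∈ Cfsg.Omega F ⇑Q ↔ dicksonHom hQ hgen g = 1 := by
  rw [Cfsg.Omega, show commutator ↥(Cfsg.isometryGroup F ⇑Q) = (dicksonHom hQ hgen).ker from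
    commutator_eq_ker_dickson hQ hgen, MonoidHom.mem_ker]

theorem hom_ext_refl {G : Type*} [Group G] (hgen : reflClosure Q = ⊤) {f f' : O Q →* G}
    (h : ∀ v, Q v ≠ 0 → f (refl Q v) = f' (refl Q v)) : f = f' := by
  refine MonoidHom.eq_of_eqOn_dense (s := Set.range (refl Q)) hgen ?_
  rintro _ ⟨v, rfl⟩
  rcases eq_or_ne (Q v) 0 with hv | hv
  · rw [refl_eq_one hv, map_one, map_one]
  · exact h v hv

section Map

variable {κ : Type} [Fintype κ] [DecidableEq κ] {Q' : QuadraticForm F (κ → F)}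

/-- `f` sends reflections to reflections of the same value. -/
def ReflMap (f : O Q →* O Q') (ext : (ι → F) → (κ → F)) : Prop :=
  ∀ v, Q v ≠ 0 → Q' (ext v) = Q v ∧ f (refl Q v) = refl Q' (ext v)

theorem chiPair_map [DecidableEq F] (hQ : Q.polarBilin.Nondegenerate) (h2 : (2 : F) ≠ 0) {d : F}
    (hd : ¬ IsSquare d) {f : O Q →* O Q'} {ext : (ι → F) → (κ → F)} (hf : ReflMap f ext) (g : O Q) :
    chiPair Q' d (f g) = chiPair Q d g := by
  refine DFunLike.congr_fun (hom_ext_refl (f := (chiPair Q' d).comp f) (odd_gen hQ h2) fun v hv => ?_) g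
  rw [MonoidHom.comp_apply, (hf v hv).2, chiPair_refl h2 hd (by rw [(hf v hv).1]; exact hv),
    chiPair_refl h2 hd hv, (hf v hv).1]

theorem dickson_map (hQ : Q.polarBilin.Nondegenerate) (hgen : reflClosure Q = ⊤)
    (hQ' : Q'.polarBilin.Nondegenerate) (hgen' : reflClosure Q' = ⊤)
    {f : O Q →* O Q'} {ext : (ι → F) → (κ → F)} (hf : ReflMap f ext) (g : O Q) :
    dicksonHom hQ' hgen' (f g) = dicksonHom hQ hgen g := by
  refine DFunLike.congr_fun (hom_ext_refl (f := (dicksonHom hQ' hgen').comp f) hgen fun v hv => ?_) g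
  rw [MonoidHom.comp_apply, (hf v hv).2, dicksonHom_refl hQ' hgen' (by rw [(hf v hv).1]; exact hv),
    dicksonHom_refl hQ hgen hv]

theorem mem_omega_map_iff (hQ : Q.polarBilin.Nondegenerate) (hQ' : Q'.polarBilin.Nondegenerate)
    (h : Fintype.card F ≠ 2 ∨ (Fintype.card ι ≠ 4 ∧ Fintype.card κ ≠ 4))
    {f : O Q →* O Q'} {ext : (ι → F) → (κ → F)} (hf : ReflMap f ext) (g : O Q) :
    f g ∈ Cfsg.Omega F ⇑Q' ↔ g ∈ Cfsg.Omega F ⇑Q := by
  classical
  by_cases h2 : (2 : F) = 0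
  · have : CharP F 2 := charP_two_of_two_eq_zero h2
    have hg := reflClosure_eq_top hQ (gen_cond (F := F) (h.imp_right And.left))
    have hg' := reflClosure_eq_top hQ' (gen_cond (F := F) (h.imp_right And.right))
    rw [mem_omega_two hQ hg, mem_omega_two hQ' hg', dickson_map hQ hg hQ' hg' hf]
  · obtain ⟨d, hd⟩ := exists_not_square h2
    rw [mem_omega_odd hQ h2 hd, mem_omega_odd hQ' h2 hd, chiPair_map hQ h2 hd hf]

theorem mul_mem_omega (hQ : Q.polarBilin.Nondegenerate) (hQ' : Q'.polarBilin.Nondegenerate)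
    (h : Fintype.card F ≠ 2 ∨ (Fintype.card ι ≠ 4 ∧ Fintype.card κ ≠ 4))
    {f f' : O Q →* O Q'} {ext ext' : (ι → F) → (κ → F)} (hf : ReflMap f ext) (hf' : ReflMap f' ext')
    (g : O Q) : f g * f' g ∈ Cfsg.Omega F ⇑Q' := by
  classical
  by_cases h2 : (2 : F) = 0
  · have : CharP F 2 := charP_two_of_two_eq_zero h2
    have hg := reflClosure_eq_top hQ (gen_cond (F := F) (h.imp_right And.left))
    have hg' := reflClosure_eq_top hQ' (gen_cond (F := F) (h.imp_right And.right))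
    rw [mem_omega_two hQ' hg', map_mul, dickson_map hQ hg hQ' hg' hf, dickson_map hQ hg hQ' hg' hf']
    exact (by decide : ∀ x : ℤˣ, x * x = 1) _
  · obtain ⟨d, hd⟩ := exists_not_square h2
    rw [mem_omega_odd hQ' h2 hd, map_mul, chiPair_map hQ h2 hd hf, chiPair_map hQ h2 hd hf']
    exact (by decide : ∀ x : ℤˣ × ℤˣ, x * x = 1) _

end Map

section Sum

variable {κ : Type} [Fintype κ] [DecidableEq κ]

/-- The orthogonal sum as a quadratic form. -/
noncomputable def sumQ (Q₁ : QuadraticForm F (ι → F)) (Q₂ : QuadraticForm F (κ → F)) :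
    QuadraticForm F (ι ⊕ κ → F) :=
  Q₁.comp (LinearMap.funLeft F F Sum.inl) + Q₂.comp (LinearMap.funLeft F F Sum.inr)

omit [Fintype F] [Fintype ι] [DecidableEq ι] [Fintype κ] [DecidableEq κ] in
theorem coe_sumQ (Q₁ : QuadraticForm F (ι → F)) (Q₂ : QuadraticForm F (κ → F)) :
    ⇑(sumQ Q₁ Q₂) = fun v : ι ⊕ κ → F => Q₁ (v ∘ Sum.inl) + Q₂ (v ∘ Sum.inr) := rfl

omit [Fintype F] [Fintype ι] [DecidableEq ι] [Fintype κ] [DecidableEq κ] in
theorem polar_sumQ (Q₁ : QuadraticForm F (ι → F)) (Q₂ : QuadraticForm F (κ → F)) (x y : ι ⊕ κ → F) :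
    polar (sumQ Q₁ Q₂) x y =
      polar Q₁ (x ∘ Sum.inl) (y ∘ Sum.inl) + polar Q₂ (x ∘ Sum.inr) (y ∘ Sum.inr) := by
  simp only [QuadraticMap.polar, coe_sumQ, Pi.add_comp]
  ring

omit [Fintype F] [Fintype ι] [DecidableEq ι] [Fintype κ] [DecidableEq κ] in
theorem sumQ_nondegenerate (Q₁ : QuadraticForm F (ι → F)) (Q₂ : QuadraticForm F (κ → F))
    (h₁ : Q₁.polarBilin.Nondegenerate) (h₂ : Q₂.polarBilin.Nondegenerate) :
    (sumQ Q₁ Q₂).polarBilin.Nondegenerate := by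
  have key : ∀ x, (∀ y, polar (sumQ Q₁ Q₂) x y = 0) → x = 0 := by
    intro x hx
    have e1 : x ∘ Sum.inl = 0 := h₁.1 _ fun y => by
      simpa [polar_sumQ, polar_zero_right] using hx (Sum.elim y 0)
    have e2 : x ∘ Sum.inr = 0 := h₂.1 _ fun y => by
      simpa [polar_sumQ, polar_zero_right] using hx (Sum.elim 0 y)
    funext s
    rcases s with i | i
    · exact congrFun e1 i
    · exact congrFun e2 i
  exact ⟨key, fun x hx => key x fun y => by
    rw [polar_comm]; exact hx y⟩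

/-- `g ↦ diag(g, 1)`. -/
noncomputable def inlHom (Q₁ : QuadraticForm F (ι → F)) (Q₂ : QuadraticForm F (κ → F)) :
    O Q₁ →* O (sumQ Q₁ Q₂) :=
  (OrthSum.blockHom ⇑Q₁ ⇑Q₂).comp (MonoidHom.inl _ _)

/-- `g ↦ diag(1, g)`. -/
noncomputable def inrHom (Q₁ : QuadraticForm F (ι → F)) (Q₂ : QuadraticForm F (κ → F)) :
    O Q₂ →* O (sumQ Q₁ Q₂) :=
  (OrthSum.blockHom ⇑Q₁ ⇑Q₂).comp (MonoidHom.inr _ _)

omit [Fintype F] in
theorem app_inlHom (Q₁ : QuadraticForm F (ι → F)) (Q₂ : QuadraticForm F (κ → F)) (g : O Q₁)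
    (x : ι ⊕ κ → F) :
    app (inlHom Q₁ Q₂ g) x = Sum.elim (app g (x ∘ Sum.inl)) (x ∘ Sum.inr) := by
  change fromBlocks ((g : GL ι F) : Matrix ι ι F) 0 0 (1 : Matrix κ κ F) *ᵥ x = _
  rw [fromBlocks_mulVec]
  funext s
  rcases s with i | i <;> simp [app_apply]

omit [Fintype F] in
theorem app_inrHom (Q₁ : QuadraticForm F (ι → F)) (Q₂ : QuadraticForm F (κ → F)) (g : O Q₂)
    (x : ι ⊕ κ → F) :
    app (inrHom Q₁ Q₂ g) x = Sum.elim (x ∘ Sum.inl) (app g (x ∘ Sum.inr)) := by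
  change fromBlocks (1 : Matrix ι ι F) 0 0 ((g : GL κ F) : Matrix κ κ F) *ᵥ x = _
  rw [fromBlocks_mulVec]
  funext s
  rcases s with i | i <;> simp [app_apply]

omit [Fintype F] in
theorem reflMap_inl (Q₁ : QuadraticForm F (ι → F)) (Q₂ : QuadraticForm F (κ → F)) :
    ReflMap (inlHom Q₁ Q₂) (fun v => Sum.elim v 0) := by
  intro v _
  have hv : sumQ Q₁ Q₂ (Sum.elim v 0) = Q₁ v := by simp [coe_sumQ]
  refine ⟨hv, ext_app fun x => ?_⟩
  rw [app_inlHom, app_refl, app_refl, hv, polar_sumQ]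
  funext s
  rcases s with i | i <;> simp [polar_zero_right]

omit [Fintype F] in
theorem reflMap_inr (Q₁ : QuadraticForm F (ι → F)) (Q₂ : QuadraticForm F (κ → F)) :
    ReflMap (inrHom Q₁ Q₂) (fun v => Sum.elim 0 v) := by
  intro v _
  have hv : sumQ Q₁ Q₂ (Sum.elim 0 v) = Q₂ v := by simp [coe_sumQ]
  refine ⟨hv, ext_app fun x => ?_⟩
  rw [app_inrHom, app_refl, app_refl, hv, polar_sumQ]
  funext s
  rcases s with i | i <;> simp [polar_zero_right]

end Sum

end CfsgLib.OrthOmega
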