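import Cfsg.Agent.Lib.OrthOmega.Adjust

/-!
The two classes of maximal totally singular subspaces and the Dickson invariant.
-/

set_option autoImplicit false
set_option linter.unusedSectionVars false

namespace CfsgLib.OrthOmega

open Matrix QuadraticMap CfsgLib.Orth

variable {F : Type*} [Field F] [Fintype F] {ι : Type} [Fintype ι] [DecidableEq ι]
  {Q : QuadraticForm F (ι → F)}

theorem Q_add_of_singular {U : Submodule F (ι → F)} (hU : ∀ u ∈ U, Q u = 0) {x y : ι → F}
    (hx : x ∈ U) (hy : y ∈ U) : polar Q x y = 0 := by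
  simp [QuadraticMap.polar, hU x hx, hU y hy, hU _ (U.add_mem hx hy)]

theorem orthogonal_of_maximal (hQ : Q.polarBilin.Nondegenerate) {m : ℕ}
    (hι : Fintype.card ι = 2 * m) {U : Submodule F (ι → F)} (hUd : Module.finrank F U = m)
    (hU : ∀ u ∈ U, Q u = 0) : LinearMap.BilinForm.orthogonal Q.polarBilin U = U := by
  refine (Submodule.eq_of_le_of_finrank_eq (fun w hw => ?_) ?_).symm
  · rw [LinearMap.BilinForm.mem_orthogonal_iff]
    intro x hx
    exact Q_add_of_singular hU hx hw
  · rw [LinearMap.BilinForm.finrank_orthogonal hQ, Module.finrank_fintype_fun_eq_card, hι, hUd]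
    omega

/-- A reflection changes the dimension of the intersection of two maximal singular subspaces by one. -/
theorem finrank_inf_refl (hQ : Q.polarBilin.Nondegenerate) {m : ℕ} (hι : Fintype.card ι = 2 * m)
    {U W : Submodule F (ι → F)} (hUd : Module.finrank F U = m) (hWd : Module.finrank F W = m)
    (hU : ∀ u ∈ U, Q u = 0) (hW : ∀ w ∈ W, Q w = 0) {v : ι → F} (hv : Q v ≠ 0) :
    Module.finrank F ↥(U ⊓ W.map (app (refl Q v))) = Module.finrank F ↥(U ⊓ W) + 1 ∨
      Module.finrank F ↥(U ⊓ W) = Module.finrank F ↥(U ⊓ W.map (app (refl Q v))) + 1 := by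
  classical
  set r := app (refl Q v) with hr
  set rW := W.map r with hrW
  have hrQ : ∀ w ∈ rW, Q w = 0 := by
    rintro _ ⟨x, hx, rfl⟩; rw [hr, Q_app]; exact hW x hx
  have hrr : ∀ x, r (r x) = x := fun x => by
    rw [hr, ← app_mul, refl_mul_self, app_one]
  have hrd : Module.finrank F rW = m :=
    (Submodule.equivMapOfInjective r (app_injective _) W).finrank_eq.symm.trans hWd
  set W' := W ⊓ LinearMap.ker (Q.polarBilin v) with hW'
  have hW'mem : ∀ x, x ∈ W' ↔ x ∈ W ∧ polar Q x v = 0 := fun x => by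
    rw [hW', Submodule.mem_inf, LinearMap.mem_ker, polarBilin_apply_apply, polar_comm]
  obtain ⟨w₀, hw₀, hw₀v⟩ : ∃ w ∈ W, polar Q w v ≠ 0 := by
    by_contra hc
    push Not at hc
    have : v ∈ LinearMap.BilinForm.orthogonal Q.polarBilin W :=
      LinearMap.BilinForm.mem_orthogonal_iff.2 hc
    rw [orthogonal_of_maximal hQ hι hWd hW] at this
    exact hv (hW v this)
  have hfix : ∀ x ∈ W', r x = x := fun x hx => app_refl_of_ortho ((hW'mem x).1 hx).2
  have hW'r : W' ≤ rW := fun x hx => ⟨x, hx.1, hfix x hx⟩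
  set X := U ⊓ W' with hX
  have key : ∀ Z : Submodule F (ι → F), Z = W ∨ Z = rW → X ≤ U ⊓ Z ∧
      Module.finrank F ↥(U ⊓ Z) ≤ Module.finrank F X + 1 ∧
      ((∃ x ∈ U ⊓ Z, x ∉ W') → Module.finrank F ↥(U ⊓ Z) = Module.finrank F X + 1) ∧
      ((∀ x ∈ U ⊓ Z, x ∈ W') → Module.finrank F ↥(U ⊓ Z) = Module.finrank F X) := by
    intro Z hZ
    have hle : W' ≤ Z := by rcases hZ with rfl | rfl; exacts [inf_le_left, hW'r]
    have hker : (Z ⊓ LinearMap.ker (Q.polarBilin v)) ≤ W' := by
      rcases hZ with rfl | rfl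
      · exact le_rfl
      · rintro x ⟨⟨y, hy, rfl⟩, hxv⟩
        have hxv' : polar Q y v = 0 := by
          have h : polar Q v (r y) = 0 := hxv
          rw [← polar_app (refl Q v), ← hr, hrr, polar_comm, app_refl_self hv] at h
          simpa [polar_neg_right] using h
        have hy' : y ∈ W' := (hW'mem y).2 ⟨hy, hxv'⟩
        rw [hfix y hy']; exact hy'
    let φ : ↥(U ⊓ Z) →ₗ[F] F := (Q.polarBilin v).comp (U ⊓ Z).subtype
    have h1 := LinearMap.finrank_range_add_finrank_ker φ
    have h2 : Module.finrank F (LinearMap.range φ) ≤ 1 := by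
      simpa using Submodule.finrank_le (LinearMap.range φ)
    have h3 : Module.finrank F (LinearMap.ker φ) = Module.finrank F X := by
      rw [← Submodule.finrank_map_subtype_eq]
      have : (LinearMap.ker φ).map (U ⊓ Z).subtype = X := by
        ext x
        constructor
        · rintro ⟨⟨y, hy⟩, hk, rfl⟩
          exact ⟨hy.1, hker ⟨hy.2, hk⟩⟩
        · intro hx
          exact ⟨⟨x, hx.1, hle hx.2⟩, hx.2.2, rfl⟩
      rw [this]
    refine ⟨fun x hx => ⟨hx.1, hle hx.2⟩, by omega, ?_, ?_⟩
    · rintro ⟨x, hx, hxW⟩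
      have : (1 : ℕ) ≤ Module.finrank F (LinearMap.range φ) := by
        by_contra h0
        have hz : LinearMap.range φ = ⊥ := Submodule.finrank_eq_zero.1 (by omega)
        rw [LinearMap.range_eq_bot] at hz
        exact hxW (hker ⟨hx.2, LinearMap.congr_fun hz ⟨x, hx⟩⟩)
      omega
    · intro h
      have : U ⊓ Z = X := le_antisymm (fun x hx => ⟨hx.1, h x hx⟩) (fun x hx => ⟨hx.1, hle hx.2⟩)
      rw [this]
  obtain ⟨-, -, hA1, hA0⟩ := key W (Or.inl rfl)
  obtain ⟨-, -, hB1, hB0⟩ := key rW (Or.inr rfl)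
  have notBoth : (∃ x ∈ U ⊓ W, x ∉ W') → ∀ y ∈ U ⊓ rW, y ∈ W' := by
    rintro ⟨x, hx, hxW⟩ y ⟨hyU, ⟨y', hy', rfl⟩⟩
    have hxv : polar Q x v ≠ 0 := fun h => hxW ((hW'mem x).2 ⟨hx.2, h⟩)
    have h0 : polar Q x (r y') = 0 := Q_add_of_singular hU hx.1 hyU
    rw [hr, app_refl, polar_sub_right, polar_smul_right, Q_add_of_singular hW hx.2 hy', zero_sub,
      neg_eq_zero, smul_eq_mul, mul_eq_zero, mul_eq_zero] at h0
    have : polar Q y' v = 0 := by
      rcases h0 with (h0 | h0) | h0
      · exact absurd h0 (inv_ne_zero hv)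
      · exact h0
      · exact absurd h0 hxv
    have hy'' : y' ∈ W' := (hW'mem y').2 ⟨hy', this⟩
    rw [hfix y' hy'']; exact hy''
  have notNone : (∃ x ∈ U ⊓ W, x ∉ W') ∨ ∃ y ∈ U ⊓ rW, y ∉ W' := by
    by_contra hc
    push Not at hc
    obtain ⟨hcW, hcR⟩ := hc
    have hW'd : Module.finrank F W' + 1 ≤ m := by
      rw [← hWd]
      exact Submodule.finrank_lt_finrank_of_lt (SetLike.lt_iff_le_and_exists.2
        ⟨inf_le_left, w₀, hw₀, fun h => hw₀v ((hW'mem w₀).1 h).2⟩)
    -- vectors of `U` orthogonal to `W'`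
    set T := LinearMap.BilinForm.orthogonal Q.polarBilin (U ⊔ W') with hT
    have hdim := Submodule.finrank_sup_add_finrank_inf_eq U W'
    have hTd : Module.finrank F T = 2 * m - Module.finrank F ↥(U ⊔ W') := by
      rw [hT, LinearMap.BilinForm.finrank_orthogonal hQ, Module.finrank_fintype_fun_eq_card, hι]
    rw [hUd, ← hX] at hdim
    have hTbig : Module.finrank F X + 1 ≤ Module.finrank F T := by omega
    have hnle : ¬ T ≤ X := fun h => by
      have := Submodule.finrank_mono h; omega
    obtain ⟨x, hxT, hxX⟩ := SetLike.not_le_iff_exists.1 hnle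
    rw [hT, LinearMap.BilinForm.mem_orthogonal_iff] at hxT
    have hxU : x ∈ U := by
      rw [← orthogonal_of_maximal hQ hι hUd hU, LinearMap.BilinForm.mem_orthogonal_iff]
      exact fun u hu => hxT u (Submodule.mem_sup_left hu)
    -- `x` lies in `W + F v`
    set c := polar Q w₀ x / polar Q w₀ v with hc
    have hxw : x - c • v ∈ W := by
      rw [← orthogonal_of_maximal hQ hι hWd hW, LinearMap.BilinForm.mem_orthogonal_iff]
      intro y hy
      change polar Q y (x - c • v) = 0
      set a := polar Q y v / polar Q w₀ v with ha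
      have hy' : y - a • w₀ ∈ W' := (hW'mem _).2 ⟨W.sub_mem hy (W.smul_mem a hw₀), by
        rw [polar_sub_left, polar_smul_left, smul_eq_mul, ha, div_mul_cancel₀ _ hw₀v, sub_self]⟩
      have h : polar Q (y - a • w₀) x = 0 := hxT _ (Submodule.mem_sup_right hy')
      rw [polar_sub_left, polar_smul_left, sub_eq_zero] at h
      rw [polar_sub_right, polar_smul_right, h, ha, hc, smul_eq_mul, smul_eq_mul]
      field_simp
      ring
    rcases eq_or_ne c 0 with h0 | h0
    · rw [h0, zero_smul, sub_zero] at hxw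
      exact hxX ⟨hxU, hcW x ⟨hxU, hxw⟩⟩
    · set w := x - c • v with hw
      have hxe : x = w + c • v := by rw [hw, sub_add_cancel]
      have h := hU x hxU
      rw [hxe, QuadraticMap.map_add ⇑Q, QuadraticMap.map_smul, polar_smul_right, hW w hxw,
        smul_eq_mul, smul_eq_mul, zero_add] at h
      have hpw : polar Q w v = -(c * Q v) := by
        have : c * (c * Q v + polar Q w v) = 0 := by linear_combination h
        linear_combination (mul_eq_zero.1 this).resolve_left h0
      have hrw : r w = x := by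
        rw [hr, app_refl, hpw, hxe, mul_neg, mul_comm c, ← mul_assoc, inv_mul_cancel₀ hv, one_mul,
          neg_smul, sub_neg_eq_add]
      exact hxX ⟨hxU, hcR x ⟨hxU, w, hxw, hrw⟩⟩
  rcases notNone with h | h
  · right
    rw [hA1 h, hB0 (notBoth h)]
  · left
    have : ∀ x ∈ U ⊓ W, x ∈ W' := by
      intro x hx
      by_contra hx'
      obtain ⟨y, hy, hy'⟩ := h
      exact hy' (notBoth ⟨x, hx, hx'⟩ y hy)
    rw [hB1 h, hA0 this]

/-- Parity of the codimension of the intersection. -/
noncomputable def classSign (m : ℕ) (U W : Submodule F (ι → F)) : ℤˣ :=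
  (-1) ^ (m - Module.finrank F ↥(U ⊓ W))

theorem classSign_eq_one_iff {m : ℕ} {U W : Submodule F (ι → F)} :
    classSign m U W = 1 ↔ Even (m - Module.finrank F ↥(U ⊓ W)) := by
  refine ⟨fun h => ?_, fun h => h.neg_one_pow⟩
  by_contra hodd
  rw [classSign, (Nat.not_even_iff_odd.1 hodd).neg_one_pow] at h
  exact absurd h (by decide)

theorem classSign_self {m : ℕ} {U : Submodule F (ι → F)} (hUd : Module.finrank F U = m) :
    classSign m U U = 1 := by
  rw [classSign_eq_one_iff, inf_idem, hUd, Nat.sub_self]; exact Even.zero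

theorem classSign_app (hQ : Q.polarBilin.Nondegenerate) (hgen : reflClosure Q = ⊤) {m : ℕ}
    (hι : Fintype.card ι = 2 * m) {U : Submodule F (ι → F)} (hUd : Module.finrank F U = m)
    (hU : ∀ u ∈ U, Q u = 0) (g : O Q) :
    classSign m U (U.map (app g)) = dicksonHom hQ hgen g := by
  classical
  have key : ∀ W : Submodule F (ι → F), Module.finrank F W = m → (∀ w ∈ W, Q w = 0) →
      classSign m U (W.map (app g)) = dicksonHom hQ hgen g * classSign m U W := by
    have hg : g ∈ reflClosure Q := by rw [hgen]; trivial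
    have step : ∀ (v : ι → F) (y : O Q), (∀ W : Submodule F (ι → F), Module.finrank F W = m →
        (∀ w ∈ W, Q w = 0) → classSign m U (W.map (app y)) = dicksonHom hQ hgen y * classSign m U W) →
        ∀ W : Submodule F (ι → F), Module.finrank F W = m → (∀ w ∈ W, Q w = 0) →
        classSign m U (W.map (app (refl Q v * y))) =
          dicksonHom hQ hgen (refl Q v * y) * classSign m U W := by
      intro v y ih W hWd hW
      rcases eq_or_ne (Q v) 0 with hv | hv
      · rw [refl_eq_one hv, one_mul]; exact ih W hWd hW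
      rw [map_app_mul, map_mul, dicksonHom_refl hQ hgen hv, mul_assoc, ← ih W hWd hW]
      set Z := W.map (app y) with hZ
      have hZd : Module.finrank F Z = m :=
        (Submodule.equivMapOfInjective _ (app_injective _) W).finrank_eq.symm.trans hWd
      have hZQ : ∀ z ∈ Z, Q z = 0 := by rintro _ ⟨x, hx, rfl⟩; rw [Q_app]; exact hW x hx
      have h1 : Module.finrank F ↥(U ⊓ Z) ≤ m := hUd ▸ Submodule.finrank_mono inf_le_left
      have h2 : Module.finrank F ↥(U ⊓ Z.map (app (refl Q v))) ≤ m :=
        hUd ▸ Submodule.finrank_mono inf_le_left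
      simp only [classSign]
      rcases finrank_inf_refl hQ hι hUd hZd hU hZQ hv with h | h
      · rw [show m - Module.finrank F ↥(U ⊓ Z) =
          m - Module.finrank F ↥(U ⊓ Z.map (app (refl Q v))) + 1 by omega, pow_succ]
        simp
      · rw [show m - Module.finrank F ↥(U ⊓ Z.map (app (refl Q v))) =
          m - Module.finrank F ↥(U ⊓ Z) + 1 by omega, pow_succ]
        simp
    induction hg using Subgroup.closure_induction_left with
    | one =>
      intro W _ _
      have : app (1 : O Q) = LinearMap.id := LinearMap.ext fun x => app_one x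
      rw [this, Submodule.map_id, map_one, one_mul]
    | mul_left x hx y _ ih =>
      obtain ⟨v, rfl⟩ := hx
      exact step v y ih
    | inv_mul_cancel x hx y _ ih =>
      obtain ⟨v, rfl⟩ := hx
      rw [refl_inv]
      exact step v y ih
  rw [key U hUd hU, classSign_self hUd, mul_one]

theorem detHom_eq_cast (hQ : Q.polarBilin.Nondegenerate) (hgen : reflClosure Q = ⊤) (g : O Q) :
    detHom Q g = Units.map (Int.castRingHom F).toMonoidHom (dicksonHom hQ hgen g) := by
  refine DFunLike.congr_fun (hom_ext_refl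
    (f' := (Units.map (Int.castRingHom F).toMonoidHom).comp (dicksonHom hQ hgen)) hgen fun v hv => ?_) g
  rw [MonoidHom.comp_apply, detHom_refl hv, dicksonHom_refl hQ hgen hv]
  ext; simp

/-- The hyperbolic form as a quadratic map. -/
noncomputable def hypQuad (m : ℕ) (F : Type*) [Field F] : QuadraticForm F (Fin m ⊕ Fin m → F) :=
  ∑ i : Fin m, QuadraticMap.proj (Sum.inl i) (Sum.inr i)

theorem coe_hypQuad (m : ℕ) : ⇑(hypQuad m F) = Cfsg.quadFormPlus m F := by
  funext v
  simp [hypQuad, Cfsg.quadFormPlus, QuadraticMap.proj_apply]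

theorem hypQuad_nondegenerate (m : ℕ) : (hypQuad m F).polarBilin.Nondegenerate := by
  have key : ∀ x, (∀ y, polar (hypQuad m F) x y = 0) → x = 0 := by
    intro x hx
    have hp : ∀ y, polar (hypQuad m F) x y = ∑ i, (x (.inl i) * y (.inr i) + y (.inl i) * x (.inr i)) := by
      intro y
      simp only [QuadraticMap.polar, coe_hypQuad, Cfsg.quadFormPlus, Pi.add_apply,
        ← Finset.sum_sub_distrib]
      exact Finset.sum_congr rfl fun i _ => by ring
    funext s
    rcases s with i | i
    · simpa [hp, Pi.single_apply] using hx (Pi.single (.inr i) 1)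
    · simpa [hp, Pi.single_apply] using hx (Pi.single (.inl i) 1)
  exact ⟨key, fun x hx => key x fun y => by rw [polar_comm]; exact hx y⟩

end CfsgLib.OrthOmega
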