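import Cfsg.Agent.Lib.OrthOmega.Invariant

/-!
Correcting an isometry into `Ω` inside a set-wise stabiliser, and related constructions.
-/

set_option autoImplicit false
set_option linter.unusedSectionVars false

namespace CfsgLib.OrthOmega

open Matrix QuadraticMap CfsgLib.Orth

variable {F : Type*} [Field F] [Fintype F] {ι : Type} [Fintype ι] [DecidableEq ι]
  {Q : QuadraticForm F (ι → F)}

/-- A linear equivalence preserving `Q` as an element of `O Q`. -/
noncomputable def ofEquiv (g : (ι → F) ≃ₗ[F] (ι → F)) (hg : ∀ x, Q (g x) = Q x) : O Q :=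
  mkO g.toLinearMap g.symm.toLinearMap (LinearMap.ext fun x => g.apply_symm_apply x)
    (LinearMap.ext fun x => g.symm_apply_apply x) hg

theorem app_ofEquiv (g : (ι → F) ≃ₗ[F] (ι → F)) (hg : ∀ x, Q (g x) = Q x) (x : ι → F) :
    app (ofEquiv g hg) x = g x := app_mkO _ _ _ _ _ x

/-- Witt's lemma giving an element of `O Q` between two subspaces. -/
theorem exists_map_eq (hQ : Q.polarBilin.Nondegenerate) (U W : Submodule F (ι → F)) (e : U ≃ₗ[F] W)
    (he : ∀ u : U, Q (e u : ι → F) = Q (u : ι → F)) : ∃ g : O Q, U.map (app g) = W := by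
  obtain ⟨g, hg, hge⟩ := CfsgLib.Forms.quad_witt_extension Q hQ U (W.subtype ∘ₗ e.toLinearMap)
    (Subtype.val_injective.comp e.injective) he
  refine ⟨ofEquiv g hg, ?_⟩
  ext y
  constructor
  · rintro ⟨x, hx, rfl⟩
    rw [app_ofEquiv, hge ⟨x, hx⟩]
    exact (e ⟨x, hx⟩).2
  · intro hy
    refine ⟨(e.symm ⟨y, hy⟩ : U), (e.symm ⟨y, hy⟩).2, ?_⟩
    rw [app_ofEquiv, hge]
    exact congrArg Subtype.val (e.apply_symm_apply ⟨y, hy⟩)

theorem map_eq_self {U : Submodule F (ι → F)} {h : O Q} (hh : ∀ x ∈ U, app h x ∈ U) :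
    U.map (app h) = U := by
  refine Submodule.eq_of_le_of_finrank_eq (by rintro _ ⟨x, hx, rfl⟩; exact hh x hx) ?_
  exact (Submodule.equivMapOfInjective (app h) (app_injective h) U).finrank_eq.symm

theorem map_app_mul (U : Submodule F (ι → F)) (g h : O Q) :
    U.map (app (g * h)) = (U.map (app h)).map (app g) := by
  rw [← Submodule.map_comp]
  congr 1
  exact LinearMap.ext fun x => app_mul g h x

theorem refl_mem_stab {U : Submodule F (ι → F)} {v : ι → F}
    (hv : v ∈ U ∨ ∀ x ∈ U, polar Q x v = 0) : ∀ x ∈ U, app (refl Q v) x ∈ U := by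
  intro x hx
  rcases hv with hv | hv
  · rw [app_refl]
    exact U.sub_mem hx (U.smul_mem _ hv)
  · rw [app_refl_of_ortho (hv x hx)]
    exact hx

theorem mul_mem_stab {U : Submodule F (ι → F)} {g h : O Q} (hg : ∀ x ∈ U, app g x ∈ U)
    (hh : ∀ x ∈ U, app h x ∈ U) : ∀ x ∈ U, app (g * h) x ∈ U := fun x hx => by
  rw [app_mul]; exact hg _ (hh x hx)

theorem one_mem_stab {U : Submodule F (ι → F)} : ∀ x ∈ U, app (1 : O Q) x ∈ U := fun x hx => by
  rw [app_one]; exact hx

/-- Characteristic two: one reflection in the stabiliser suffices. -/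
theorem exists_omega_map_two [CharP F 2] (hQ : Q.polarBilin.Nondegenerate)
    (hgen : reflClosure Q = ⊤) {U W : Submodule F (ι → F)} {g : O Q} (hg : U.map (app g) = W)
    {v : ι → F} (hv : Q v ≠ 0) (hs : v ∈ U ∨ ∀ x ∈ U, polar Q x v = 0) :
    ∃ k : O Q, k ∈ Cfsg.Omega F ⇑Q ∧ U.map (app k) = W := by
  rcases Int.units_eq_one_or (dicksonHom hQ hgen g) with h | h
  · exact ⟨g, (mem_omega_two hQ hgen g).2 h, hg⟩
  · refine ⟨g * refl Q v, (mem_omega_two hQ hgen _).2 ?_, ?_⟩
    · rw [map_mul, h, dicksonHom_refl hQ hgen hv]; decide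
    · rw [map_app_mul, map_eq_self (refl_mem_stab hs), hg]

set_option synthInstance.maxSize 512 in
/-- Odd characteristic: two elements of the stabiliser with independent invariants suffice. -/
theorem exists_omega_map_odd [DecidableEq F] (hQ : Q.polarBilin.Nondegenerate) (h2 : (2 : F) ≠ 0)
    {d : F} (hd : ¬ IsSquare d) {U W : Submodule F (ι → F)} {g : O Q} (hg : U.map (app g) = W)
    {a b : O Q} (ha : ∀ x ∈ U, app a x ∈ U) (hb : ∀ x ∈ U, app b x ∈ U)
    (h1 : chiPair Q d a ≠ 1) (h3 : chiPair Q d b ≠ 1) (hab : chiPair Q d a ≠ chiPair Q d b) :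
    ∃ k : O Q, k ∈ Cfsg.Omega F ⇑Q ∧ U.map (app k) = W := by
  obtain ⟨h, hh, hχ⟩ : ∃ h : O Q, (∀ x ∈ U, app h x ∈ U) ∧ chiPair Q d h = chiPair Q d g := by
    rcases (by decide : ∀ x y z : ℤˣ × ℤˣ, x ≠ 1 → y ≠ 1 → x ≠ y →
        z = 1 ∨ z = x ∨ z = y ∨ z = x * y) _ _ (chiPair Q d g) h1 h3 hab with e | e | e | e
    · exact ⟨1, one_mem_stab, by rw [map_one, e]⟩
    · exact ⟨a, ha, e.symm⟩
    · exact ⟨b, hb, e.symm⟩
    · exact ⟨a * b, mul_mem_stab ha hb, by rw [map_mul, e]⟩
  refine ⟨g * h, (mem_omega_odd hQ h2 hd _).2 ?_, by rw [map_app_mul, map_eq_self hh, hg]⟩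
  rw [map_mul, hχ]
  exact (by decide : ∀ x : ℤˣ × ℤˣ, x * x = 1) _

/-- A non-degenerate subspace, seen as a quadratic space on coordinates. -/
theorem sub_nondegenerate (X : Submodule F (ι → F))
    (hX : ∀ x ∈ X, (∀ y ∈ X, polar Q x y = 0) → x = 0) {d : ℕ} (e : (Fin d → F) ≃ₗ[F] X) :
    (Q.comp (X.subtype ∘ₗ e.toLinearMap)).polarBilin.Nondegenerate := by
  have hpol : ∀ a b : Fin d → F,
      polar (Q.comp (X.subtype ∘ₗ e.toLinearMap)) a b = polar Q (e a : ι → F) (e b : ι → F) := by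
    intro a b
    simp [QuadraticMap.polar]
  have key : ∀ a, (∀ b, polar (Q.comp (X.subtype ∘ₗ e.toLinearMap)) a b = 0) → a = 0 := by
    intro a ha
    apply e.injective
    rw [map_zero]
    refine Subtype.ext (hX _ (e a).2 fun y hy => ?_)
    have h := ha (e.symm ⟨y, hy⟩)
    rwa [hpol, e.apply_symm_apply] at h
  exact ⟨key, fun a ha => key a fun b => by rw [polar_comm]; exact ha b⟩

theorem exists_value_sub [DecidableEq F] (h2 : (2 : F) ≠ 0) (X : Submodule F (ι → F))
    (hX : ∀ x ∈ X, (∀ y ∈ X, polar Q x y = 0) → x = 0) (hd : 2 ≤ Module.finrank F X) {c : F}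
    (hc : c ≠ 0) : ∃ x ∈ X, Q x = c := by
  let e : (Fin (Module.finrank F X) → F) ≃ₗ[F] X := (Module.finBasis F X).equivFun.symm
  obtain ⟨a, ha⟩ := exists_value_ne (sub_nondegenerate X hX e) h2 (by simpa using hd) hc
  exact ⟨e a, (e a).2, by simpa using ha⟩

theorem exists_anisotropic_sub (X : Submodule F (ι → F))
    (hX : ∀ x ∈ X, (∀ y ∈ X, polar Q x y = 0) → x = 0) (hd : 1 ≤ Module.finrank F X) :
    ∃ x ∈ X, Q x ≠ 0 := by
  let e : (Fin (Module.finrank F X) → F) ≃ₗ[F] X := (Module.finBasis F X).equivFun.symm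
  obtain ⟨a, ha⟩ := CfsgLib.Orth.exists_anisotropic (sub_nondegenerate X hX e) (by simpa using hd)
  exact ⟨e a, (e a).2, by simpa using ha⟩

/-- An anisotropic vector orthogonal to a totally singular subspace of less than half the dimension. -/
theorem exists_anisotropic_ortho (hQ : Q.polarBilin.Nondegenerate) (U : Submodule F (ι → F))
    (hk : 2 * Module.finrank F U < Fintype.card ι) :
    ∃ v, Q v ≠ 0 ∧ ∀ x ∈ U, polar Q x v = 0 := by
  by_contra hc
  push Not at hc
  have h := two_finrank_le hQ (W := LinearMap.BilinForm.orthogonal Q.polarBilin U) fun w hw => by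
    by_contra hw'
    obtain ⟨x, hx, hxw⟩ := hc w hw'
    exact hxw (LinearMap.BilinForm.mem_orthogonal_iff.1 hw x hx)
  rw [LinearMap.BilinForm.finrank_orthogonal hQ, Module.finrank_fintype_fun_eq_card] at h
  omega

/-- A product of two reflections stabilising a nonzero totally singular subspace with both invariants `-1`. -/
theorem exists_stab_hyperbolic [DecidableEq F] (hQ : Q.polarBilin.Nondegenerate) (h2 : (2 : F) ≠ 0)
    {d : F} (hd : ¬ IsSquare d) (U : Submodule F (ι → F)) (hU : ∀ u ∈ U, Q u = 0) (hne : U ≠ ⊥) :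
    ∃ h : O Q, (∀ x ∈ U, app h x ∈ U) ∧ chiPair Q d h = (-1, -1) := by
  obtain ⟨u, hu, hu0⟩ := Submodule.exists_mem_ne_zero_of_ne_bot hne
  obtain ⟨U', hcompl⟩ := Submodule.exists_isCompl (F ∙ u)
  set U₁ := U ⊓ U' with hU₁
  let b := Module.finBasis F U₁
  have hspan : Submodule.span F (Set.range fun i => (b i : ι → F)) = U₁ := by
    have h1 := congrArg (Submodule.map U₁.subtype) b.span_eq
    rw [Submodule.map_span, Submodule.map_subtype_top] at h1
    rwa [← Set.range_comp] at h1
  have hnot : u ∉ Submodule.span F (Set.range fun i => (b i : ι → F)) := by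
    rw [hspan]
    intro h
    exact hu0 ((Submodule.mem_bot F).1 (hcompl.disjoint.le_bot ⟨Submodule.mem_span_singleton_self u, h.2⟩))
  obtain ⟨p, hp, hp1⟩ := CfsgLib.Forms.exists_orth_pair_one (σ := RingHom.id F) Function.surjective_id
    Q.polarBilin hQ.1 _ _ hnot
  have hp1' : polar Q u p = 1 := hp1
  have hpU : ∀ x ∈ U₁, polar Q x p = 0 := by
    intro x hx
    have h : x ∈ LinearMap.ker (Q.polarBilin p) := by
      rw [← hspan] at hx
      refine (Submodule.span_le.2 ?_) hx
      rintro _ ⟨i, rfl⟩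
      change polar Q p (b i : ι → F) = 0
      rw [polar_comm]; exact hp i
    rw [polar_comm]; exact h
  have huU : ∀ x ∈ U, polar Q x u = 0 := fun x hx => by
    simp [QuadraticMap.polar, hU x hx, hU u hu, hU _ (U.add_mem hx hu)]
  set w := p - Q p • u with hw
  have huu : polar Q u u = 0 := huU u hu
  have huw : polar Q u w = 1 := by
    rw [hw, polar_sub_right, polar_smul_right, huu, hp1']; simp
  have hQw : Q w = 0 := by
    rw [hw, sub_eq_add_neg, ← neg_smul, QuadraticMap.map_add ⇑Q, QuadraticMap.map_smul,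
      polar_smul_right, hU u hu, polar_comm, hp1']; simp
  have hxw : ∀ x ∈ U₁, polar Q x w = 0 := fun x hx => by
    rw [hw, polar_sub_right, polar_smul_right, hpU x hx, huU x hx.1]; simp
  have hd0 := ne_zero_of_not_isSquare h2 hd
  have hQc : ∀ c : F, Q (u + c • w) = c := fun c => by
    rw [QuadraticMap.map_add ⇑Q, QuadraticMap.map_smul, polar_smul_right, hU u hu, hQw, huw]; simp
  have hw' : w = (1 : F) • w := (one_smul F w).symm
  refine ⟨refl Q (u + (1 : F) • w) * refl Q (u + d • w), ?_, ?_⟩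
  · intro x hx
    have hdec : x ∈ (F ∙ u) ⊔ U' := by rw [hcompl.sup_eq_top]; trivial
    obtain ⟨y, hy, z, hz, rfl⟩ := Submodule.mem_sup.1 hdec
    obtain ⟨r, rfl⟩ := Submodule.mem_span_singleton.1 hy
    have hzU : z ∈ U₁ := by
      refine ⟨?_, hz⟩
      have := U.sub_mem hx (U.smul_mem r hu)
      simpa using this
    have hfix : ∀ c : F, app (refl Q (u + c • w)) z = z := fun c => by
      apply app_refl_of_ortho
      rw [polar_add_right, polar_smul_right, huU z hzU.1, hxw z hzU]; simp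
    have hru : app (refl Q (u + d • w)) u = -(d • w) := by
      rw [app_refl, hQc, polar_add_right, polar_smul_right, huu, huw, zero_add, smul_eq_mul,
        mul_one, inv_mul_cancel₀ hd0, one_smul]
      abel
    have hrw : app (refl Q (u + (1 : F) • w)) w = -u := by
      rw [app_refl, hQc, polar_add_right, polar_smul_right, polar_comm (f := ⇑Q) w u, huw,
        polar_self', hQw, mul_zero, smul_zero, add_zero, inv_one, one_mul, one_smul, one_smul]
      abel
    rw [map_add, map_smul, app_mul, app_mul, hru, hfix, hfix, map_neg, map_smul, hrw]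
    refine U.add_mem (U.smul_mem _ ?_) hzU.1
    simpa using U.smul_mem d hu
  · rw [map_mul, chiPair_refl h2 hd (by rw [hQc]; exact one_ne_zero),
      chiPair_refl h2 hd (by rw [hQc]; exact hd0), hQc, hQc, if_pos IsSquare.one, if_neg hd]
    rfl

end CfsgLib.OrthOmega
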